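import Cfsg.Agent.Overgroup.Checks

/-!
Kernel checks for `chevB2`.
-/

set_option autoImplicit false

namespace Cfsg.Agent.Overgroup

open Cfsg.Lie Cfsg.Agent.Chev

theorem b2_steps3 : chkAllSteps chevB2 b2Cert 3 = true := by decide +kernel

theorem b2_steps5 : chkAllSteps chevB2 b2Cert 5 = true := by decide +kernel

theorem b2_two : chkTwo chevB2 b2Cert 6 = true := by decide +kernel

theorem b2_pair : chkB2Pair chevB2 b2Cert = true := by decide +kernel

end Cfsg.Agent.Overgroup
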