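import Cfsg.Agent.Overgroup.Checks

/-!
Kernel checks for `chevE6`.
-/

set_option autoImplicit false

namespace Cfsg.Agent.Overgroup

open Cfsg.Lie Cfsg.Agent.Chev

theorem e6_steps2 : chkAllSteps chevE6 e6Cert 2 = true := by decide +kernel

theorem e6_steps3 : chkAllSteps chevE6 e6Cert 3 = true := by decide +kernel

theorem e6_steps5 : chkAllSteps chevE6 e6Cert 5 = true := by decide +kernel

theorem e6_two : chkTwo chevE6 e6Cert 71 = true := by decide +kernel

theorem e6_A2 : chkA2 chevE6 e6Cert = true := by decide +kernel

theorem e6_torus : chkTorus chevE6 e6Cert = true := by decide +kernel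

end Cfsg.Agent.Overgroup
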