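import Cfsg.Agent.Overgroup.Checks

/-!
Kernel checks for `chevE7`.
-/

set_option autoImplicit false

namespace Cfsg.Agent.Overgroup

open Cfsg.Lie Cfsg.Agent.Chev

theorem e7_steps2 : chkAllSteps chevE7 e7Cert 2 = true := by decide +kernel

theorem e7_steps3 : chkAllSteps chevE7 e7Cert 3 = true := by decide +kernel

theorem e7_steps5 : chkAllSteps chevE7 e7Cert 5 = true := by decide +kernel

theorem e7_two : chkTwo chevE7 e7Cert 125 = true := by decide +kernel

theorem e7_A2 : chkA2 chevE7 e7Cert = true := by decide +kernel

theorem e7_torus : chkTorus chevE7 e7Cert = true := by decide +kernel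

end Cfsg.Agent.Overgroup
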