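import Cfsg.Agent.Overgroup.Checks

/-!
Kernel checks for `chevE8`.
-/

set_option autoImplicit false

namespace Cfsg.Agent.Overgroup

open Cfsg.Lie Cfsg.Agent.Chev

theorem e8_steps2 : chkAllSteps chevE8 e8Cert 2 = true := by decide +kernel

theorem e8_steps3 : chkAllSteps chevE8 e8Cert 3 = true := by decide +kernel

theorem e8_steps5 : chkAllSteps chevE8 e8Cert 5 = true := by decide +kernel

theorem e8_two : chkTwo chevE8 e8Cert 239 = true := by decide +kernel

theorem e8_A2 : chkA2 chevE8 e8Cert = true := by decide +kernel

theorem e8_torus : chkTorus chevE8 e8Cert = true := by decide +kernel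

end Cfsg.Agent.Overgroup
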