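import Cfsg.Agent.Overgroup.Checks

/-!
Kernel checks for `chevF4`.
-/

set_option autoImplicit false

namespace Cfsg.Agent.Overgroup

open Cfsg.Lie Cfsg.Agent.Chev

theorem f4_steps3 : chkAllSteps chevF4 f4Cert 3 = true := by decide +kernel

theorem f4_steps5 : chkAllSteps chevF4 f4Cert 5 = true := by decide +kernel

theorem f4_two : chkTwo chevF4 f4Cert 44 = true := by decide +kernel

theorem f4_A2 : chkA2 chevF4 f4Cert = true := by decide +kernel

theorem f4_torus : chkTorus chevF4 f4Cert = true := by decide +kernel

theorem f4_spec : chkSpecSteps chevF4 f4Cert 2 44 = true := by decide +kernel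

theorem f4_power : chkPower chevF4 f4Cert 2 = true := by decide +kernel

end Cfsg.Agent.Overgroup
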