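import Cfsg.Agent.Overgroup.Checks

/-!
Kernel checks for `chevG2`.
-/

set_option autoImplicit false

namespace Cfsg.Agent.Overgroup

open Cfsg.Lie Cfsg.Agent.Chev

theorem g2_steps2 : chkAllSteps chevG2 g2Cert 2 = true := by decide +kernel

theorem g2_steps5 : chkAllSteps chevG2 g2Cert 5 = true := by decide +kernel

theorem g2_two : chkTwo chevG2 g2Cert 9 = true := by decide +kernel

theorem g2_A2 : chkA2 chevG2 g2Cert = true := by decide +kernel

theorem g2_torus : chkTorus chevG2 g2Cert = true := by decide +kernel

theorem g2_spec : chkSpecSteps chevG2 g2Cert 3 9 = true := by decide +kernel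

theorem g2_power : chkPower chevG2 g2Cert 3 = true := by decide +kernel

end Cfsg.Agent.Overgroup
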