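import Cfsg.Agent.Overgroup.LongCheck
import Cfsg.Agent.Chev.RadicalCentralizer

/-!
Kernel checks on pairs of long roots.
-/

set_option autoImplicit false

namespace Cfsg.Agent.Overgroup

open Cfsg.Lie Cfsg.Agent.Chev

theorem exists_long_checks {D : ChevalleyDatum}
    (hD : D ∈ [chevG2, chevB2, chevD4, chevF4, chevE6, chevE7, chevE8]) :
    ∃ C : Cert, Checks D C ∧ chkLinked D C = true ∧ chkLong D C = true := by
  simp only [List.mem_cons, List.not_mem_nil, or_false] at hD
  rcases hD with rfl | rfl | rfl | rfl | rfl | rfl | rfl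
  exacts [⟨g2Cert, g2_checks, by decide +kernel, by decide +kernel⟩,
    ⟨b2Cert, b2_checks, by decide +kernel, by decide +kernel⟩,
    ⟨d4Cert, d4_checks, by decide +kernel, by decide +kernel⟩,
    ⟨f4Cert, f4_checks, by decide +kernel, by decide +kernel⟩,
    ⟨e6Cert, e6_checks, by decide +kernel, by decide +kernel⟩,
    ⟨e7Cert, e7_checks, by decide +kernel, by decide +kernel⟩,
    ⟨e8Cert, e8_checks, by decide +kernel, by decide +kernel⟩]

end Cfsg.Agent.Overgroup
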